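import Mathlib
import Groth.Prelude.Def_Found
import Groth.Agent.Lib.Helper5.FibReg.RegLoc

/-!
# Geometric regularity: transport along isomorphisms, localization and Zariski gluing (helper2)
-/

set_option autoImplicit false
set_option backward.isDefEq.respectTransparency.types false
set_option synthInstance.maxHeartbeats 400000
set_option maxHeartbeats 4000000
set_option linter.style.haveILetI false
set_option linter.unusedSectionVars false
set_option linter.unusedVariables false
set_option linter.unusedSimpArgs false

universe u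

open TensorProduct

namespace Groth.Agent.Helper2.RegMor

/-- transport of geometric regularity along compatible isomorphisms of the field and the algebra -/
theorem geomReg_transport {K K₁ C' C : Type u} [Field K] [Field K₁] [CommRing C'] [CommRing C]
    [Algebra K C'] [Algebra K₁ C] (σ : K ≃+* K₁) (τ : C' ≃+* C)
    (h : ∀ a, τ (algebraMap K C' a) = algebraMap K₁ C (σ a))
    (hreg : CAlg.IsGeometricallyRegular K C') : CAlg.IsGeometricallyRegular K₁ C := by
  intro k₁ _ _ hfin
  letI : Algebra K K₁ := σ.toRingHom.toAlgebra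
  letI : Algebra K k₁ := ((algebraMap K₁ k₁).comp σ.toRingHom).toAlgebra
  letI : Algebra K C := ((algebraMap K₁ C).comp σ.toRingHom).toAlgebra
  haveI : IsScalarTower K K₁ k₁ := .of_algebraMap_eq' rfl
  haveI : IsScalarTower K K₁ C := .of_algebraMap_eq' rfl
  haveI : Module.Finite K K₁ := Module.Finite.of_surjective (Algebra.linearMap K K₁) σ.surjective
  haveI : Module.Finite K k₁ := Module.Finite.trans K₁ k₁
  have hr : IsRegularRing (k₁ ⊗[K] C') := hreg k₁ inferInstance
  let τ' : C' ≃ₐ[K] C := { τ with commutes' := h }
  let e1 : k₁ ⊗[K] C' ≃ₐ[K] k₁ ⊗[K] C := Algebra.TensorProduct.congr AlgEquiv.refl τ'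
  haveI : TensorProduct.CompatibleSMul K K₁ k₁ C := by
    refine ⟨fun s m n => ?_⟩
    obtain ⟨r, rfl⟩ := σ.surjective s
    have h1 : (σ r) • m = r • m := by
      rw [Algebra.smul_def, Algebra.smul_def]; rfl
    have h2 : (σ r) • n = r • n := by
      rw [Algebra.smul_def, Algebra.smul_def]; rfl
    rw [h1, h2, TensorProduct.smul_tmul]
  let e2 : k₁ ⊗[K₁] C ≃ₐ[K] k₁ ⊗[K] C := Algebra.TensorProduct.equivOfCompatibleSMul K K₁ K k₁ C
  exact IsRegularRing.of_ringEquiv (e1.toRingEquiv.trans e2.symm.toRingEquiv)

section Loc

variable (K k' C C' : Type u) [Field K] [Field k'] [Algebra K k'] [CommRing C] [CommRing C']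
  [Algebra K C] [Algebra K C'] [Algebra C C'] [IsScalarTower K C C']

/-- the algebra structure of `k' ⊗ C'` over `k' ⊗ C` -/
noncomputable abbrev tensorAlg : Algebra (k' ⊗[K] C) (k' ⊗[K] C') :=
  (Algebra.TensorProduct.map (AlgHom.id K k') (IsScalarTower.toAlgHom K C C')).toRingHom.toAlgebra

theorem isLocalization_tensor (M : Submonoid C) [IsLocalization M C'] :
    letI := tensorAlg K k' C C'
    IsLocalization (M.map (Algebra.TensorProduct.includeRight (R := K) (A := k')))
      (k' ⊗[K] C') := by
  letI := tensorAlg K k' C C'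
  haveI : IsScalarTower k' (k' ⊗[K] C) (k' ⊗[K] C') := by
    refine .of_algebraMap_eq' ?_
    ext x
    change (x ⊗ₜ[K] (1 : C')) = Algebra.TensorProduct.map (AlgHom.id K k')
      (IsScalarTower.toAlgHom K C C') (x ⊗ₜ[K] (1 : C))
    simp
  refine IsLocalization.tensorProduct_tensorProduct_right K k' M C' ?_
  ext x
  change Algebra.TensorProduct.map (AlgHom.id K k') (IsScalarTower.toAlgHom K C C')
    ((1 : k') ⊗ₜ[K] x) = (1 : k') ⊗ₜ[K] (algebraMap C C' x)
  simp

end Loc

/-- geometric regularity passes to localizations -/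
theorem geomReg_of_isLocalization {K C C' : Type u} [Field K] [CommRing C] [CommRing C']
    [Algebra K C] [Algebra K C'] [Algebra C C'] [IsScalarTower K C C'] (M : Submonoid C)
    [IsLocalization M C'] (h : CAlg.IsGeometricallyRegular K C) :
    CAlg.IsGeometricallyRegular K C' := by
  intro k' _ _ hfin
  haveI := h k' hfin
  letI := tensorAlg K k' C C'
  haveI := isLocalization_tensor K k' C C' M
  exact Groth.Agent.Lib.Helper5.FibReg.isRegularRing_of_isLocalization
    (T₀ := k' ⊗[K] C) (T := k' ⊗[K] C')
    (M.map (Algebra.TensorProduct.includeRight (R := K) (A := k')))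

/-- a noetherian ring which is Zariski-locally regular is regular -/
theorem isRegularRing_of_cover {T : Type u} [CommRing T] [IsNoetherianRing T]
    (h : ∀ P : Ideal T, P.IsPrime → ∃ (T' : Type u) (_ : CommRing T') (_ : Algebra T T')
      (M : Submonoid T), IsLocalization M T' ∧ IsRegularRing T' ∧
        Disjoint (M : Set T) (P : Set T)) : IsRegularRing T := by
  rw [isRegularRing_iff]
  intro P hP
  obtain ⟨T', _, _, M, hloc, hreg, hdisj⟩ := h P hP
  have hP' : (P.map (algebraMap T T')).IsPrime :=
    IsLocalization.isPrime_of_isPrime_disjoint M T' P hP hdisj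
  have hcomap : (P.map (algebraMap T T')).comap (algebraMap T T') = P :=
    IsLocalization.under_map_of_isPrime_disjoint M T' hP hdisj
  haveI : IsLocalization.AtPrime (Localization.AtPrime (P.map (algebraMap T T')))
      ((P.map (algebraMap T T')).comap (algebraMap T T')) :=
    IsLocalization.isLocalization_isLocalization_atPrime_isLocalization M
      (Localization.AtPrime (P.map (algebraMap T T'))) (P.map (algebraMap T T'))
  have hreg' : IsRegularLocalRing (Localization.AtPrime (P.map (algebraMap T T'))) :=
    inferInstance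
  have key : IsRegularLocalRing
      (Localization.AtPrime ((P.map (algebraMap T T')).comap (algebraMap T T'))) :=
    IsRegularLocalRing.of_ringEquiv
      (IsLocalization.algEquiv ((P.map (algebraMap T T')).comap (algebraMap T T')).primeCompl
        (Localization.AtPrime ((P.map (algebraMap T T')).comap (algebraMap T T')))
        (Localization.AtPrime (P.map (algebraMap T T')))).toRingEquiv.symm
  have hE : ∀ (Q : Ideal T) [Q.IsPrime] (hQ : Q = P),
      IsRegularLocalRing (Localization.AtPrime Q) → IsRegularLocalRing (Localization.AtPrime P) := by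
    intro Q _ hQ hh; subst hQ; exact hh
  exact hE _ hcomap key

/-- geometric regularity glues along a finite cover by basic opens -/
theorem geomReg_of_span {K C : Type u} [Field K] [CommRing C] [Algebra K C] [IsNoetherianRing C]
    (s : Set C) (hs : Ideal.span s = ⊤)
    (h : ∀ g ∈ s, ∃ (C' : Type u) (_ : CommRing C') (_ : Algebra K C') (_ : Algebra C C')
      (_ : IsScalarTower K C C'), IsLocalization.Away g C' ∧ CAlg.IsGeometricallyRegular K C') :
    CAlg.IsGeometricallyRegular K C := by
  intro k' _ _ hfin
  haveI : IsNoetherianRing (k' ⊗[K] C) := by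
    haveI : Module.Finite C (C ⊗[K] k') := Module.Finite.base_change K C k'
    haveI : IsNoetherianRing (C ⊗[K] k') := Algebra.FiniteType.isNoetherianRing C (C ⊗[K] k')
    exact isNoetherianRing_of_ringEquiv (C ⊗[K] k') (Algebra.TensorProduct.comm K C k').toRingEquiv
  apply isRegularRing_of_cover
  intro P hP
  have hspan : Ideal.span ((Algebra.TensorProduct.includeRight (R := K) (A := k') (B := C)) '' s)
      = ⊤ := by
    have := congrArg (Ideal.map (Algebra.TensorProduct.includeRight (R := K) (A := k') (B := C))) hs
    rwa [Ideal.map_span, Ideal.map_top] at this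
  obtain ⟨g, hg, hgP⟩ : ∃ g ∈ s, ((1 : k') ⊗ₜ[K] g) ∉ P := by
    by_contra hcon
    push Not at hcon
    have hle : Ideal.span ((Algebra.TensorProduct.includeRight (R := K) (A := k') (B := C)) '' s)
        ≤ P := by
      rw [Ideal.span_le]
      rintro _ ⟨g, hg, rfl⟩
      exact hcon g hg
    rw [hspan] at hle
    exact hP.ne_top (top_le_iff.mp hle)
  obtain ⟨C', _, _, _, _, hloc, hreg⟩ := h g hg
  haveI := hloc
  letI := tensorAlg K k' C C'
  refine ⟨k' ⊗[K] C', inferInstance, inferInstance,
    (Submonoid.powers g).map (Algebra.TensorProduct.includeRight (R := K) (A := k')),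
    isLocalization_tensor K k' C C' (Submonoid.powers g), hreg k' hfin, ?_⟩
  rw [Set.disjoint_left]
  rintro x hx hxP
  obtain ⟨y, ⟨n, rfl⟩, rfl⟩ := hx
  have : ((1 : k') ⊗ₜ[K] g) ^ n ∈ P := by
    have h2 : (Algebra.TensorProduct.includeRight (R := K) (A := k') (B := C)) (g ^ n) =
        ((1 : k') ⊗ₜ[K] g) ^ n := by
      rw [map_pow]; rfl
    rw [← h2]; exact hxP
  exact hgP (hP.mem_of_pow_mem n this)

end Groth.Agent.Helper2.RegMor
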