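import Mathlib
import Groth.Prelude.Def_Found
import Groth.Agent.Lib.Helper2.RegMor.Alg
import Groth.Agent.Lib.Helper6.RedFib.Sch

/-!
# Regular morphisms: affine-locally regular iff flat with geometrically regular fibres (helper2)
-/

set_option autoImplicit false
set_option backward.isDefEq.respectTransparency.types false
set_option synthInstance.maxHeartbeats 400000
set_option maxHeartbeats 4000000
set_option linter.style.haveILetI false
set_option linter.unusedSectionVars false
set_option linter.unusedVariables false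
set_option linter.unusedSimpArgs false

universe u

open CategoryTheory Limits AlgebraicGeometry TensorProduct

namespace Groth.Agent.Helper2.RegMor

/-- the structure map of the sections over `W` of a scheme over `Spec K` -/
noncomputable abbrev secAlg {Z : Scheme.{u}} {K : CommRingCat.{u}} (q : Z ⟶ Spec K) (W : Z.Opens) :
    K ⟶ Γ(Z, W) :=
  (Scheme.ΓSpecIso K).inv ≫ q.appTop ≫ Z.presheaf.map (homOfLE le_top).op

theorem secAlg_chart {Z : Scheme.{u}} {K K₁ C : CommRingCat.{u}} (q : Z ⟶ Spec K) (a : K₁ ⟶ C)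
    (Φ : Spec C ⟶ Z) [IsOpenImmersion Φ] (σ : K ⟶ K₁)
    (hcomm : Φ ≫ q = Spec.map a ≫ Spec.map σ) :
    secAlg q (Φ ''ᵁ ⊤) ≫ (Φ.appIso ⊤).hom ≫ (Scheme.ΓSpecIso C).hom = σ ≫ a := by
  have h1 : Z.presheaf.map (homOfLE (le_top : Φ ''ᵁ ⊤ ≤ ⊤)).op ≫ (Φ.appIso ⊤).hom =
      Φ.appLE ⊤ ⊤ le_top := by
    rw [Scheme.Hom.appIso_hom', Scheme.Hom.map_appLE]
  have h2 : q.appTop ≫ Φ.appLE ⊤ ⊤ le_top = (Φ ≫ q).appTop := by
    have h4 : Φ.appLE ⊤ ⊤ le_top = Φ.appTop := by
      rw [Scheme.Hom.appTop, Scheme.Hom.app_eq_appLE]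
      rfl
    rw [h4, Scheme.Hom.comp_appTop]
  have h3 : (Φ ≫ q).appTop = (Spec.map σ).appTop ≫ (Spec.map a).appTop := by
    rw [hcomm]; simp
  calc secAlg q (Φ ''ᵁ ⊤) ≫ (Φ.appIso ⊤).hom ≫ (Scheme.ΓSpecIso C).hom
      = (Scheme.ΓSpecIso K).inv ≫ q.appTop ≫
          (Z.presheaf.map (homOfLE (le_top : Φ ''ᵁ ⊤ ≤ ⊤)).op ≫ (Φ.appIso ⊤).hom) ≫
            (Scheme.ΓSpecIso C).hom := by simp only [secAlg, Category.assoc]
    _ = (Scheme.ΓSpecIso K).inv ≫ ((Spec.map σ).appTop ≫ (Spec.map a).appTop) ≫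
            (Scheme.ΓSpecIso C).hom := by
        rw [h1, ← Category.assoc q.appTop, h2, h3]
    _ = σ ≫ a := by
        simp only [Category.assoc, Scheme.ΓSpecIso_naturality]
        rw [← Category.assoc (Scheme.ΓSpecIso K).inv, ← Scheme.ΓSpecIso_inv_naturality]
        simp

theorem exists_chart {X Y : Scheme.{u}} (f : X ⟶ Y) (U : X.Opens) (V : Y.Opens)
    (hU : IsAffineOpen U) (hV : IsAffineOpen V) (hUV : U ≤ f ⁻¹ᵁ V)
    (p : PrimeSpectrum Γ(Y, V)) :
    letI := (f.appLE V U hUV).hom.toAlgebra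
    ∃ (Φ : Spec (CommRingCat.of (p.asIdeal.Fiber Γ(X, U))) ⟶ f.fiber (hV.fromSpec p))
      (σ : Y.residueField (hV.fromSpec p) ⟶ CommRingCat.of p.asIdeal.ResidueField),
      IsOpenImmersion Φ ∧ Function.Bijective σ.hom ∧
      Φ ≫ f.fiberToSpecResidueField (hV.fromSpec p) =
        Spec.map (CommRingCat.ofHom
          (algebraMap p.asIdeal.ResidueField (p.asIdeal.Fiber Γ(X, U)))) ≫ Spec.map σ ∧
      ∀ z : f.fiber (hV.fromSpec p), f.fiberι _ z ∈ U → z ∈ Set.range Φ := by
  letI := (f.appLE V U hUV).hom.toAlgebra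
  let g : Spec Γ(X, U) ⟶ Spec Γ(Y, V) :=
    Spec.map (CommRingCat.ofHom (algebraMap Γ(Y, V) Γ(X, U)))
  have hg : g ≫ hV.fromSpec = hU.fromSpec ≫ f :=
    IsAffineOpen.SpecMap_appLE_fromSpec f hV hU hUV
  obtain ⟨ψ, hψ, hψ1, hψ2⟩ :=
    Groth.Agent.Lib.Helper6.RedFib.exists_fiber_chart f hU.fromSpec hV.fromSpec g hg p
  let e := Spec.fiberToSpecResidueFieldIso Γ(Y, V) Γ(X, U) p
  have hw : e.inv.left ≫ g.fiberToSpecResidueField p =
      Spec.map (CommRingCat.ofHom
        (algebraMap p.asIdeal.ResidueField (p.asIdeal.Fiber Γ(X, U)))) ≫ e.inv.right := e.inv.w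
  let ρ : Spec (CommRingCat.of p.asIdeal.ResidueField) ⟶
      Spec (Y.residueField (hV.fromSpec p)) :=
    e.inv.right ≫ Spec.map (hV.fromSpec.residueFieldMap p)
  haveI : IsIso ρ := by
    haveI : IsIso e.inv.right := inferInstance
    haveI : IsIso (Spec.map (hV.fromSpec.residueFieldMap p)) := inferInstance
    infer_instance
  let σ : Y.residueField (hV.fromSpec p) ⟶ CommRingCat.of p.asIdeal.ResidueField := Spec.preimage ρ
  have hσ : Spec.map σ = ρ := Spec.map_preimage ρ
  have hleft : e.hom.left ≫ e.inv.left = 𝟙 _ := by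
    have := congrArg (fun t => t.left) e.hom_inv_id
    simpa using this
  haveI : IsIso e.inv.left := inferInstance
  refine ⟨e.inv.left ≫ ψ, σ, inferInstance, ?_, ?_, ?_⟩
  · rw [← isIso_SpecMap_iff, hσ]; infer_instance
  · rw [Category.assoc, hψ1, ← Category.assoc, hw, Category.assoc, hσ]
  · intro z hz
    obtain ⟨x', hx'⟩ : ∃ x' : Spec Γ(X, U), hU.fromSpec x' = f.fiberι _ z := by
      have : f.fiberι _ z ∈ Set.range hU.fromSpec := by rw [hU.range_fromSpec]; exact hz
      exact this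
    have hfx : f (f.fiberι _ z) = hV.fromSpec p := by
      have : f.fiberι (hV.fromSpec p) z ∈ Set.range (f.fiberι (hV.fromSpec p)) := ⟨z, rfl⟩
      rw [Scheme.Hom.range_fiberι] at this
      exact this
    have hgx : g x' = p := by
      apply hV.fromSpec.isOpenEmbedding.injective
      rw [← Scheme.Hom.comp_apply, hg, Scheme.Hom.comp_apply, hx', hfx]
    obtain ⟨t, ht⟩ : ∃ t : Spec ((Spec Γ(Y, V)).residueField p),
        (Spec Γ(Y, V)).fromSpecResidueField p t = p := by
      have : p ∈ Set.range ((Spec Γ(Y, V)).fromSpecResidueField p) := by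
        rw [Scheme.range_fromSpecResidueField]; rfl
      exact this
    obtain ⟨z', hz'1, hz'2⟩ :=
      Scheme.Pullback.exists_preimage_pullback x' t (hgx.trans ht.symm)
    have hzz : ψ z' = z := by
      apply (f.fiberι (hV.fromSpec p)).isEmbedding.injective
      rw [← Scheme.Hom.comp_apply, hψ2, Scheme.Hom.comp_apply]
      rw [show g.fiberι p z' = x' from hz'1, hx']
    refine ⟨e.hom.left z', ?_⟩
    rw [Scheme.Hom.comp_apply, ← Scheme.Hom.comp_apply e.hom.left, hleft]
    simpa using hzz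

theorem geomReg_transport_iff {K K₁ C' C : Type u} [Field K] [Field K₁] [CommRing C']
    [CommRing C] [Algebra K C'] [Algebra K₁ C] (σ : K ≃+* K₁) (τ : C' ≃+* C)
    (h : ∀ a, τ (algebraMap K C' a) = algebraMap K₁ C (σ a)) :
    CAlg.IsGeometricallyRegular K C' ↔ CAlg.IsGeometricallyRegular K₁ C := by
  refine ⟨geomReg_transport σ τ h, geomReg_transport σ.symm τ.symm ?_⟩
  intro b
  apply τ.injective
  rw [RingEquiv.apply_symm_apply, h, RingEquiv.apply_symm_apply]

/-- the fibre ring of an affine chart, seen as sections of the fibre over an affine open -/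
theorem chart_transport {X Y : Scheme.{u}} (f : X ⟶ Y) (U : X.Opens) (V : Y.Opens)
    (hU : IsAffineOpen U) (hV : IsAffineOpen V) (hUV : U ≤ f ⁻¹ᵁ V)
    (p : PrimeSpectrum Γ(Y, V)) :
    letI := (f.appLE V U hUV).hom.toAlgebra
    ∃ (W : (f.fiber (hV.fromSpec p)).Opens), IsAffineOpen W ∧
      (∀ z : f.fiber (hV.fromSpec p), f.fiberι _ z ∈ U → z ∈ W) ∧
      letI : Algebra ↑(Y.residueField (hV.fromSpec p)) ↑Γ(f.fiber (hV.fromSpec p), W) :=
        (secAlg (f.fiberToSpecResidueField (hV.fromSpec p)) W).hom.toAlgebra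
      ((IsNoetherianRing ↑Γ(f.fiber (hV.fromSpec p), W) ↔
          IsNoetherianRing (p.asIdeal.Fiber Γ(X, U))) ∧
        (CAlg.IsGeometricallyRegular ↑(Y.residueField (hV.fromSpec p))
            ↑Γ(f.fiber (hV.fromSpec p), W) ↔
          CAlg.IsGeometricallyRegular p.asIdeal.ResidueField (p.asIdeal.Fiber Γ(X, U)))) := by
  letI := (f.appLE V U hUV).hom.toAlgebra
  obtain ⟨Φ, σ, hΦ, hσ, hcomm, hcov⟩ := exists_chart f U V hU hV hUV p
  refine ⟨Φ ''ᵁ ⊤, (isAffineOpen_top _).image_of_isOpenImmersion Φ, ?_, ?_⟩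
  · intro z hz
    obtain ⟨w, rfl⟩ := hcov z hz
    exact ⟨w, trivial, rfl⟩
  · letI : Algebra ↑(Y.residueField (hV.fromSpec p)) ↑Γ(f.fiber (hV.fromSpec p), Φ ''ᵁ ⊤) :=
      (secAlg (f.fiberToSpecResidueField (hV.fromSpec p)) (Φ ''ᵁ ⊤)).hom.toAlgebra
    let τ : ↑Γ(f.fiber (hV.fromSpec p), Φ ''ᵁ ⊤) ≃+* p.asIdeal.Fiber Γ(X, U) :=
      ((Φ.appIso ⊤) ≪≫ Scheme.ΓSpecIso _).commRingCatIsoToRingEquiv
    let σ' : ↑(Y.residueField (hV.fromSpec p)) ≃+* p.asIdeal.ResidueField :=
      RingEquiv.ofBijective σ.hom hσ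
    have hcompat : ∀ a, τ (algebraMap ↑(Y.residueField (hV.fromSpec p))
        ↑Γ(f.fiber (hV.fromSpec p), Φ ''ᵁ ⊤) a) =
        algebraMap p.asIdeal.ResidueField (p.asIdeal.Fiber Γ(X, U)) (σ' a) := by
      intro a
      have := secAlg_chart (f.fiberToSpecResidueField (hV.fromSpec p))
        (CommRingCat.ofHom (algebraMap p.asIdeal.ResidueField (p.asIdeal.Fiber Γ(X, U))))
        Φ σ hcomm
      exact ConcreteCategory.congr_hom this a
    refine ⟨⟨fun h => isNoetherianRing_of_ringEquiv _ τ,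
      fun h => isNoetherianRing_of_ringEquiv _ τ.symm⟩, geomReg_transport_iff σ' τ hcompat⟩

/-- the main theorem of S1474 -/
theorem main1474 {X Y : Scheme.{u}} (f : X ⟶ Y)
    (hN : ∀ y : Y, IsLocallyNoetherian (f.fiber y)) :
    (∀ (U : X.Opens) (V : Y.Opens) (hU : IsAffineOpen U) (hV : IsAffineOpen V)
        (hUV : U ≤ f ⁻¹ᵁ V),
        letI := (f.appLE V U hUV).hom.toAlgebra
        CAlg.IsRegularHom Γ(Y, V) Γ(X, U)) ↔
      Flat f ∧ ∀ (y : Y) (W : (f.fiber y).Opens), IsAffineOpen W →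
        letI : Algebra ↑(Y.residueField y) ↑Γ(f.fiber y, W) :=
          ((Scheme.ΓSpecIso (Y.residueField y)).inv ≫ (f.fiberToSpecResidueField y).appTop ≫
            (f.fiber y).presheaf.map (homOfLE le_top).op).hom.toAlgebra
        IsNoetherianRing ↑Γ(f.fiber y, W) ∧
          CAlg.IsGeometricallyRegular ↑(Y.residueField y) ↑Γ(f.fiber y, W) := by
  constructor
  · intro H
    refine ⟨?_, ?_⟩
    · rw [HasRingHomProperty.iff_appLE (P := @Flat)]
      intro V U e
      exact (H U.1 V.1 U.2 V.2 e).1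
    · intro y W hW
      obtain ⟨_, ⟨V, hV, rfl⟩, hyV, -⟩ :=
        Y.isBasis_affineOpens.exists_subset_of_mem_open (Set.mem_univ y) isOpen_univ
      have hV' : IsAffineOpen V := hV
      obtain ⟨p, rfl⟩ : ∃ p : PrimeSpectrum Γ(Y, V), hV'.fromSpec p = y :=
        ⟨hV'.primeIdealOf ⟨y, hyV⟩, hV'.fromSpec_primeIdealOf ⟨y, hyV⟩⟩
      haveI := hN (hV'.fromSpec p)
      refine ⟨IsLocallyNoetherian.component_noetherian ⟨W, hW⟩, ?_⟩
      let P : (f.fiber (hV'.fromSpec p)).affineOpens → Prop := fun W' =>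
        letI : Algebra ↑(Y.residueField (hV'.fromSpec p)) ↑Γ(f.fiber (hV'.fromSpec p), W'.1) :=
          (secAlg (f.fiberToSpecResidueField (hV'.fromSpec p)) W'.1).hom.toAlgebra
        CAlg.IsGeometricallyRegular ↑(Y.residueField (hV'.fromSpec p))
          ↑Γ(f.fiber (hV'.fromSpec p), W'.1)
      have key : ∀ z : f.fiber (hV'.fromSpec p),
          ∃ W' : (f.fiber (hV'.fromSpec p)).affineOpens, z ∈ W'.1 ∧ P W' := by
        intro z
        have hfx : f (f.fiberι _ z) = hV'.fromSpec p := by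
          have : f.fiberι (hV'.fromSpec p) z ∈ Set.range (f.fiberι (hV'.fromSpec p)) := ⟨z, rfl⟩
          rw [Scheme.Hom.range_fiberι] at this
          exact this
        have hxV : f.fiberι _ z ∈ f ⁻¹ᵁ V := by
          show f (f.fiberι _ z) ∈ V
          rw [hfx]; exact hyV
        obtain ⟨_, ⟨U, hU, rfl⟩, hxU, hUV⟩ :=
          X.isBasis_affineOpens.exists_subset_of_mem_open hxV (f ⁻¹ᵁ V).isOpen
        obtain ⟨W', hW', hmem, hNoe, hGR⟩ := chart_transport f U V hU hV' hUV p
        exact ⟨⟨W', hW'⟩, hmem z hxU, hGR.mpr ((H U V hU hV' hUV).2 p.asIdeal).2⟩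
      choose Wz hz hP using key
      have hcov : (⨆ z, (Wz z : (f.fiber (hV'.fromSpec p)).Opens)) = ⊤ := by
        rw [eq_top_iff]
        intro z _
        exact TopologicalSpace.Opens.mem_iSup.mpr ⟨z, hz z⟩
      have main : P ⟨W, hW⟩ := by
        refine of_affine_open_cover (P := P) Wz hcov ⟨W, hW⟩ ?_ ?_ hP
        · intro W' g hPW'
          letI : Algebra ↑(Y.residueField (hV'.fromSpec p)) ↑Γ(f.fiber (hV'.fromSpec p), W'.1) :=
            (secAlg (f.fiberToSpecResidueField (hV'.fromSpec p)) W'.1).hom.toAlgebra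
          letI : Algebra ↑(Y.residueField (hV'.fromSpec p))
              ↑Γ(f.fiber (hV'.fromSpec p), (f.fiber (hV'.fromSpec p)).basicOpen g) :=
            (secAlg (f.fiberToSpecResidueField (hV'.fromSpec p))
              ((f.fiber (hV'.fromSpec p)).basicOpen g)).hom.toAlgebra
          haveI : IsScalarTower ↑(Y.residueField (hV'.fromSpec p))
              ↑Γ(f.fiber (hV'.fromSpec p), W'.1)
              ↑Γ(f.fiber (hV'.fromSpec p), (f.fiber (hV'.fromSpec p)).basicOpen g) := by
            refine .of_algebraMap_eq' ?_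
            simp only [RingHom.algebraMap_toAlgebra, secAlg]
            rw [← CommRingCat.hom_comp]
            simp only [Category.assoc, ← Functor.map_comp]
            rfl
          haveI := W'.2.isLocalization_basicOpen g
          change CAlg.IsGeometricallyRegular ↑(Y.residueField (hV'.fromSpec p))
            ↑Γ(f.fiber (hV'.fromSpec p), (f.fiber (hV'.fromSpec p)).basicOpen g)
          exact geomReg_of_isLocalization (Submonoid.powers g) hPW'
        · intro W' s hs hall
          letI : Algebra ↑(Y.residueField (hV'.fromSpec p)) ↑Γ(f.fiber (hV'.fromSpec p), W'.1) :=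
            (secAlg (f.fiberToSpecResidueField (hV'.fromSpec p)) W'.1).hom.toAlgebra
          haveI : IsNoetherianRing ↑Γ(f.fiber (hV'.fromSpec p), W'.1) :=
            IsLocallyNoetherian.component_noetherian W'
          refine geomReg_of_span (s : Set _) hs ?_
          intro g hg
          letI alg2 : Algebra ↑(Y.residueField (hV'.fromSpec p))
              ↑Γ(f.fiber (hV'.fromSpec p), (f.fiber (hV'.fromSpec p)).basicOpen g) :=
            (secAlg (f.fiberToSpecResidueField (hV'.fromSpec p))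
              ((f.fiber (hV'.fromSpec p)).basicOpen g)).hom.toAlgebra
          have hst : IsScalarTower ↑(Y.residueField (hV'.fromSpec p))
              ↑Γ(f.fiber (hV'.fromSpec p), W'.1)
              ↑Γ(f.fiber (hV'.fromSpec p), (f.fiber (hV'.fromSpec p)).basicOpen g) := by
            refine .of_algebraMap_eq' ?_
            simp only [RingHom.algebraMap_toAlgebra, secAlg]
            rw [← CommRingCat.hom_comp]
            simp only [Category.assoc, ← Functor.map_comp]
            rfl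
          exact ⟨↑Γ(f.fiber (hV'.fromSpec p), (f.fiber (hV'.fromSpec p)).basicOpen g),
            inferInstance, alg2, inferInstance, hst,
            W'.2.isLocalization_basicOpen g, hall ⟨g, hg⟩⟩
      exact main
  · rintro ⟨hflat, H⟩ U V hU hV hUV
    letI := (f.appLE V U hUV).hom.toAlgebra
    refine ⟨?_, ?_⟩
    · have := (HasRingHomProperty.iff_appLE (P := @Flat)).mp hflat ⟨V, hV⟩ ⟨U, hU⟩ hUV
      exact this
    · intro p hp
      obtain ⟨W', hW', hmem, hNoe, hGR⟩ := chart_transport f U V hU hV hUV ⟨p, hp⟩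
      obtain ⟨h1, h2⟩ := H (hV.fromSpec ⟨p, hp⟩) W' hW'
      exact ⟨hNoe.mp h1, hGR.mp h2⟩

end Groth.Agent.Helper2.RegMor
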