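import Mathlib
import Groth.Prelude.Def_Found
import Groth.Agent.Lib.Helper2.RegMor.Sch

/-!
# Morphisms whose fibres have a property of algebras over fields: generic framework (helper2)
-/

set_option autoImplicit false
set_option backward.isDefEq.respectTransparency.types false
set_option synthInstance.maxHeartbeats 400000
set_option maxHeartbeats 4000000
set_option linter.style.haveILetI false
set_option linter.unusedSectionVars false
set_option linter.unusedVariables false
set_option linter.unusedSimpArgs false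

universe u

open CategoryTheory Limits AlgebraicGeometry TensorProduct

namespace Groth.Agent.Helper2.RegMor

/-- A property of commutative algebras over fields. -/
abbrev FAProp := ∀ (K : Type u) [Field K] (C : Type u) [CommRing C] [Algebra K C], Prop

/-- Zariski-local nature of a property of algebras over fields. -/
structure FAProp.Local (Pk : FAProp.{u}) : Prop where
  transport : ∀ {K K₁ C' C : Type u} [Field K] [Field K₁] [CommRing C'] [CommRing C]
    [Algebra K C'] [Algebra K₁ C] (σ : K ≃+* K₁) (τ : C' ≃+* C),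
    (∀ a, τ (algebraMap K C' a) = algebraMap K₁ C (σ a)) → Pk K C' → Pk K₁ C
  loc : ∀ {K C C' : Type u} [Field K] [CommRing C] [CommRing C'] [Algebra K C] [Algebra K C']
    [Algebra C C'] [IsScalarTower K C C'] (M : Submonoid C) [IsLocalization M C'],
    Pk K C → Pk K C'
  glue : ∀ {K C : Type u} [Field K] [CommRing C] [Algebra K C] [IsNoetherianRing C] (s : Set C),
    Ideal.span s = ⊤ → (∀ g ∈ s, ∃ (C' : Type u) (_ : CommRing C') (_ : Algebra K C')
      (_ : Algebra C C') (_ : IsScalarTower K C C'), IsLocalization.Away g C' ∧ Pk K C') → Pk K C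

/-- Behaviour under finitely generated extensions of the base field. -/
structure FAProp.FieldBC (Pk : FAProp.{u}) : Prop where
  ascent : ∀ {K K' C : Type u} [Field K] [Field K'] [Algebra K K'] [Algebra.EssFiniteType K K']
    [CommRing C] [Algebra K C] [IsNoetherianRing C], Pk K C → Pk K' (K' ⊗[K] C)
  descent : ∀ {K K' C : Type u} [Field K] [Field K'] [Algebra K K'] [Algebra.EssFiniteType K K']
    [CommRing C] [Algebra K C] [IsNoetherianRing C], Pk K' (K' ⊗[K] C) → Pk K C

/-- flat with all fibre rings satisfying `Pk` -/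
def HomProp (Pk : FAProp.{u}) (A B : Type u) [CommRing A] [CommRing B] [Algebra A B] : Prop :=
  Module.Flat A B ∧ ∀ (p : Ideal A) [p.IsPrime], Pk p.ResidueField (p.Fiber B)

theorem FAProp.Local.transport_iff {Pk : FAProp.{u}} (hP : Pk.Local)
    {K K₁ C' C : Type u} [Field K] [Field K₁] [CommRing C']
    [CommRing C] [Algebra K C'] [Algebra K₁ C] (σ : K ≃+* K₁) (τ : C' ≃+* C)
    (h : ∀ a, τ (algebraMap K C' a) = algebraMap K₁ C (σ a)) :
    Pk K C' ↔ Pk K₁ C := by
  refine ⟨hP.transport σ τ h, hP.transport σ.symm τ.symm ?_⟩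
  intro b
  apply τ.injective
  rw [RingEquiv.apply_symm_apply, h, RingEquiv.apply_symm_apply]

/-- the scalar tower for sections over a basic open -/
theorem secAlg_tower {Z : Scheme.{u}} (k : Type u) [Field k] (q : Z ⟶ Spec (CommRingCat.of k))
    (W : Z.Opens) (g : Γ(Z, W)) :
    letI : Algebra k Γ(Z, W) := (secAlg q W).hom.toAlgebra
    letI : Algebra k Γ(Z, Z.basicOpen g) := (secAlg q (Z.basicOpen g)).hom.toAlgebra
    IsScalarTower k Γ(Z, W) Γ(Z, Z.basicOpen g) := by
  letI : Algebra k Γ(Z, W) := (secAlg q W).hom.toAlgebra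
  letI : Algebra k Γ(Z, Z.basicOpen g) := (secAlg q (Z.basicOpen g)).hom.toAlgebra
  refine .of_algebraMap_eq' ?_
  simp only [RingHom.algebraMap_toAlgebra, secAlg]
  rw [← CommRingCat.hom_comp]
  simp only [Category.assoc, ← Functor.map_comp]
  rfl

/-- affine communication for a local property of algebras over a field -/
theorem affine_local {Pk : FAProp.{u}} (hP : Pk.Local) {Z : Scheme.{u}} [IsLocallyNoetherian Z]
    (k : Type u) [Field k] (q : Z ⟶ Spec (CommRingCat.of k)) {ι : Type*}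
    (Wz : ι → Z.affineOpens)
    (hcov : (⨆ i, (Wz i : Z.Opens)) = ⊤)
    (h : ∀ i, letI : Algebra k Γ(Z, (Wz i).1) := (secAlg q (Wz i).1).hom.toAlgebra
      Pk k Γ(Z, (Wz i).1))
    (W : Z.Opens) (hW : IsAffineOpen W) :
    letI : Algebra k Γ(Z, W) := (secAlg q W).hom.toAlgebra
    Pk k Γ(Z, W) := by
  let P : Z.affineOpens → Prop := fun W' =>
    letI : Algebra k Γ(Z, W'.1) := (secAlg q W'.1).hom.toAlgebra
    Pk k Γ(Z, W'.1)
  have main : P ⟨W, hW⟩ := by
    refine of_affine_open_cover (P := P) Wz hcov ⟨W, hW⟩ ?_ ?_ h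
    · intro W' g hPW'
      letI : Algebra k Γ(Z, W'.1) := (secAlg q W'.1).hom.toAlgebra
      letI : Algebra k Γ(Z, Z.basicOpen g) := (secAlg q (Z.basicOpen g)).hom.toAlgebra
      haveI := secAlg_tower k q W'.1 g
      haveI := W'.2.isLocalization_basicOpen g
      change Pk k Γ(Z, Z.basicOpen g)
      exact hP.loc (Submonoid.powers g) hPW'
    · intro W' s hs hall
      letI : Algebra k Γ(Z, W'.1) := (secAlg q W'.1).hom.toAlgebra
      haveI : IsNoetherianRing Γ(Z, W'.1) := IsLocallyNoetherian.component_noetherian W'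
      refine hP.glue (s : Set _) hs ?_
      intro g hg
      letI alg2 : Algebra k Γ(Z, Z.basicOpen g) := (secAlg q (Z.basicOpen g)).hom.toAlgebra
      have hst := secAlg_tower k q W'.1 g
      exact ⟨Γ(Z, Z.basicOpen g), inferInstance, alg2, inferInstance, hst,
        W'.2.isLocalization_basicOpen g, hall ⟨g, hg⟩⟩
  exact main

/-- the fibre ring of an affine chart, seen as sections of the fibre over an affine open -/
theorem chart_equiv {X Y : Scheme.{u}} (f : X ⟶ Y) (U : X.Opens) (V : Y.Opens)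
    (hU : IsAffineOpen U) (hV : IsAffineOpen V) (hUV : U ≤ f ⁻¹ᵁ V)
    (p : PrimeSpectrum Γ(Y, V)) :
    letI := (f.appLE V U hUV).hom.toAlgebra
    ∃ (W : (f.fiber (hV.fromSpec p)).Opens), IsAffineOpen W ∧
      (∀ z : f.fiber (hV.fromSpec p), f.fiberι _ z ∈ U → z ∈ W) ∧
      letI : Algebra ↑(Y.residueField (hV.fromSpec p)) ↑Γ(f.fiber (hV.fromSpec p), W) :=
        (secAlg (f.fiberToSpecResidueField (hV.fromSpec p)) W).hom.toAlgebra
      ∃ (σ : ↑(Y.residueField (hV.fromSpec p)) ≃+* p.asIdeal.ResidueField)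
        (τ : ↑Γ(f.fiber (hV.fromSpec p), W) ≃+* p.asIdeal.Fiber Γ(X, U)),
        ∀ a, τ (algebraMap ↑(Y.residueField (hV.fromSpec p))
          ↑Γ(f.fiber (hV.fromSpec p), W) a) =
          algebraMap p.asIdeal.ResidueField (p.asIdeal.Fiber Γ(X, U)) (σ a) := by
  letI := (f.appLE V U hUV).hom.toAlgebra
  obtain ⟨Φ, σ, hΦ, hσ, hcomm, hcov⟩ := exists_chart f U V hU hV hUV p
  refine ⟨Φ ''ᵁ ⊤, (isAffineOpen_top _).image_of_isOpenImmersion Φ, ?_, ?_⟩
  · intro z hz
    obtain ⟨w, rfl⟩ := hcov z hz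
    exact ⟨w, trivial, rfl⟩
  · letI : Algebra ↑(Y.residueField (hV.fromSpec p)) ↑Γ(f.fiber (hV.fromSpec p), Φ ''ᵁ ⊤) :=
      (secAlg (f.fiberToSpecResidueField (hV.fromSpec p)) (Φ ''ᵁ ⊤)).hom.toAlgebra
    let τ : ↑Γ(f.fiber (hV.fromSpec p), Φ ''ᵁ ⊤) ≃+* p.asIdeal.Fiber Γ(X, U) :=
      ((Φ.appIso ⊤) ≪≫ Scheme.ΓSpecIso _).commRingCatIsoToRingEquiv
    let σ' : ↑(Y.residueField (hV.fromSpec p)) ≃+* p.asIdeal.ResidueField :=
      RingEquiv.ofBijective σ.hom hσ
    refine ⟨σ', τ, ?_⟩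
    intro a
    have := secAlg_chart (f.fiberToSpecResidueField (hV.fromSpec p))
      (CommRingCat.ofHom (algebraMap p.asIdeal.ResidueField (p.asIdeal.Fiber Γ(X, U))))
      Φ σ hcomm
    exact ConcreteCategory.congr_hom this a

theorem fiber_map_eq {X Y : Scheme.{u}} (f : X ⟶ Y) (y : Y) (z : f.fiber y) :
    f (f.fiberι y z) = y := by
  have : f.fiberι y z ∈ Set.range (f.fiberι y) := ⟨z, rfl⟩
  rw [Scheme.Hom.range_fiberι] at this
  exact this

/-- the generic form of S1474 -/
theorem main_generic {Pk : FAProp.{u}} (hP : Pk.Local) {X Y : Scheme.{u}} (f : X ⟶ Y)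
    (hN : ∀ y : Y, IsLocallyNoetherian (f.fiber y)) :
    (∀ (U : X.Opens) (V : Y.Opens) (hU : IsAffineOpen U) (hV : IsAffineOpen V)
        (hUV : U ≤ f ⁻¹ᵁ V),
        letI := (f.appLE V U hUV).hom.toAlgebra
        HomProp Pk Γ(Y, V) Γ(X, U)) ↔
      Flat f ∧ ∀ (y : Y) (W : (f.fiber y).Opens), IsAffineOpen W →
        letI : Algebra ↑(Y.residueField y) ↑Γ(f.fiber y, W) :=
          (secAlg (f.fiberToSpecResidueField y) W).hom.toAlgebra
        Pk ↑(Y.residueField y) ↑Γ(f.fiber y, W) := by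
  constructor
  · intro H
    refine ⟨?_, ?_⟩
    · rw [HasRingHomProperty.iff_appLE (P := @Flat)]
      intro V U e
      exact (H U.1 V.1 U.2 V.2 e).1
    · intro y W hW
      obtain ⟨_, ⟨V, hV, rfl⟩, hyV, -⟩ :=
        Y.isBasis_affineOpens.exists_subset_of_mem_open (Set.mem_univ y) isOpen_univ
      have hV' : IsAffineOpen V := hV
      obtain ⟨p, rfl⟩ : ∃ p : PrimeSpectrum Γ(Y, V), hV'.fromSpec p = y :=
        ⟨hV'.primeIdealOf ⟨y, hyV⟩, hV'.fromSpec_primeIdealOf ⟨y, hyV⟩⟩
      haveI := hN (hV'.fromSpec p)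
      have key : ∀ z : f.fiber (hV'.fromSpec p),
          ∃ W' : (f.fiber (hV'.fromSpec p)).affineOpens, z ∈ W'.1 ∧
            letI : Algebra ↑(Y.residueField (hV'.fromSpec p))
                ↑Γ(f.fiber (hV'.fromSpec p), W'.1) :=
              (secAlg (f.fiberToSpecResidueField (hV'.fromSpec p)) W'.1).hom.toAlgebra
            Pk ↑(Y.residueField (hV'.fromSpec p)) ↑Γ(f.fiber (hV'.fromSpec p), W'.1) := by
        intro z
        have hfx : f (f.fiberι _ z) = hV'.fromSpec p := fiber_map_eq f _ z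
        have hxV : f.fiberι _ z ∈ f ⁻¹ᵁ V := by
          show f (f.fiberι _ z) ∈ V
          rw [hfx]; exact hyV
        obtain ⟨_, ⟨U, hU, rfl⟩, hxU, hUV⟩ :=
          X.isBasis_affineOpens.exists_subset_of_mem_open hxV (f ⁻¹ᵁ V).isOpen
        obtain ⟨W', hW', hmem, σ, τ, hcompat⟩ := chart_equiv f U V hU hV' hUV p
        letI : Algebra ↑(Y.residueField (hV'.fromSpec p)) ↑Γ(f.fiber (hV'.fromSpec p), W') :=
          (secAlg (f.fiberToSpecResidueField (hV'.fromSpec p)) W').hom.toAlgebra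
        letI := (f.appLE V U hUV).hom.toAlgebra
        exact ⟨⟨W', hW'⟩, hmem z hxU,
          (hP.transport_iff σ τ hcompat).mpr ((H U V hU hV' hUV).2 p.asIdeal)⟩
      choose Wz hz hPz using key
      have hcov : (⨆ z, (Wz z : (f.fiber (hV'.fromSpec p)).Opens)) = ⊤ := by
        rw [eq_top_iff]
        intro z _
        exact TopologicalSpace.Opens.mem_iSup.mpr ⟨z, hz z⟩
      exact affine_local hP ↑(Y.residueField (hV'.fromSpec p))
        (f.fiberToSpecResidueField (hV'.fromSpec p)) Wz hcov hPz W hW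
  · rintro ⟨hflat, H⟩ U V hU hV hUV
    letI := (f.appLE V U hUV).hom.toAlgebra
    refine ⟨?_, ?_⟩
    · have := (HasRingHomProperty.iff_appLE (P := @Flat)).mp hflat ⟨V, hV⟩ ⟨U, hU⟩ hUV
      exact this
    · intro p hp
      obtain ⟨W', hW', hmem, σ, τ, hcompat⟩ := chart_equiv f U V hU hV hUV ⟨p, hp⟩
      letI : Algebra ↑(Y.residueField (hV.fromSpec ⟨p, hp⟩))
          ↑Γ(f.fiber (hV.fromSpec ⟨p, hp⟩), W') :=
        (secAlg (f.fiberToSpecResidueField (hV.fromSpec ⟨p, hp⟩)) W').hom.toAlgebra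
      exact (hP.transport_iff σ τ hcompat).mp (H (hV.fromSpec ⟨p, hp⟩) W' hW')

end Groth.Agent.Helper2.RegMor
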