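import Mathlib
import Groth.Prelude.Def_Found
import Groth.Agent.Lib.Helper2.RegMor.Generic
import Groth.Agent.Lib.Helper2.Sch.NoethDescent
import Groth.Agent.Lib.Helper8.GRBase1

/-!
# Base change of the base field for schemes over a field, and local properties (helper2)
-/

set_option autoImplicit false
set_option backward.isDefEq.respectTransparency.types false
set_option synthInstance.maxHeartbeats 400000
set_option maxHeartbeats 4000000
set_option linter.style.haveILetI false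
set_option linter.unusedSectionVars false
set_option linter.unusedVariables false
set_option linter.unusedSimpArgs false

universe u

open CategoryTheory Limits AlgebraicGeometry TensorProduct

namespace Groth.Agent.Helper2.RegMor

theorem comp_appTop_topIso {Z : Scheme.{u}} {K : CommRingCat.{u}} (q : Z ⟶ Spec K)
    (W : Z.Opens) :
    (W.ι ≫ q).appTop ≫ W.topIso.hom = (Scheme.ΓSpecIso K).hom ≫ secAlg q W := by
  simp only [secAlg, Scheme.Hom.comp_appTop, Category.assoc, Iso.hom_inv_id_assoc]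
  congr 1
  rw [Scheme.Opens.ι_appTop, Scheme.Opens.topIso_hom]
  exact (Z.presheaf.map_comp _ _).symm

theorem restrict_appTop_topIso {Z Z' : Scheme.{u}} (ξ : Z' ⟶ Z) (W : Z.Opens) :
    (ξ ∣_ W).appTop ≫ (ξ ⁻¹ᵁ W).topIso.hom = W.topIso.hom ≫ ξ.app W := by
  have := (arrowResLEAppIso ξ W (ξ ⁻¹ᵁ W) le_rfl).hom.w
  simp only [arrowResLEAppIso, Arrow.mk_hom, Arrow.isoMk_hom_left, Arrow.isoMk_hom_right] at this
  rw [Scheme.Hom.resLE_eq_morphismRestrict, Scheme.Hom.appLE_eq_app] at this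
  exact this.symm

/-- sections over the preimage of an affine open under a base change of the base field -/
theorem isPushout_sections {Z Z' : Scheme.{u}} {K K' : CommRingCat.{u}} (φ : K ⟶ K')
    (ξ : Z' ⟶ Z) (q' : Z' ⟶ Spec K') (q : Z ⟶ Spec K)
    (hsq : IsPullback ξ q' q (Spec.map φ)) (W : Z.Opens) (hW : IsAffineOpen W) :
    IsPushout (secAlg q W) φ (ξ.app W) (secAlg q' (ξ ⁻¹ᵁ W)) := by
  haveI : IsAffine W.toScheme := hW
  have h1 : IsPullback (ξ ∣_ W) ((ξ ⁻¹ᵁ W).ι ≫ q') (W.ι ≫ q) (Spec.map φ) :=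
    (isPullback_morphismRestrict ξ W).paste_vert hsq
  have h2 := isPushout_appTop_of_isPullback h1
  refine h2.of_iso (Scheme.ΓSpecIso K) W.topIso (Scheme.ΓSpecIso K') (ξ ⁻¹ᵁ W).topIso ?_ ?_ ?_ ?_
  · exact comp_appTop_topIso q W
  · exact Scheme.ΓSpecIso_naturality φ
  · exact restrict_appTop_topIso ξ W
  · exact comp_appTop_topIso q' (ξ ⁻¹ᵁ W)

theorem isAffineOpen_preimage_of_isPullback {Z Z' : Scheme.{u}} {K K' : CommRingCat.{u}}
    (φ : K ⟶ K') (ξ : Z' ⟶ Z) (q' : Z' ⟶ Spec K') (q : Z ⟶ Spec K)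
    (hsq : IsPullback ξ q' q (Spec.map φ)) (W : Z.Opens) (hW : IsAffineOpen W) :
    IsAffineOpen (ξ ⁻¹ᵁ W) := by
  haveI : IsAffineHom ξ := MorphismProperty.of_isPullback (P := @IsAffineHom) hsq.flip inferInstance
  exact hW.preimage ξ

/-- a pushout square of commutative rings is a tensor product -/
theorem exists_equiv_of_isPushout (k k' : Type u) [Field k] [Field k'] [Algebra k k']
    {C C' : CommRingCat.{u}} (a : CommRingCat.of k ⟶ C) (c : C ⟶ C')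
    (b : CommRingCat.of k' ⟶ C')
    (h : IsPushout a (CommRingCat.ofHom (algebraMap k k')) c b) :
    letI : Algebra k C := a.hom.toAlgebra
    ∃ τ : C' ≃+* k' ⊗[k] C, (∀ x : k', τ (b.hom x) = x ⊗ₜ[k] (1 : C)) := by
  letI : Algebra k C := a.hom.toAlgebra
  have h0 := CommRingCat.isPushout_tensorProduct k k' C
  have h1 : IsPushout (CommRingCat.ofHom (algebraMap k k')) a b c := h.flip
  let e := h1.isoIsPushout _ _ h0
  refine ⟨e.commRingCatIsoToRingEquiv, ?_⟩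
  intro x
  have := h1.inl_isoIsPushout_hom _ _ h0
  have h3 := ConcreteCategory.congr_hom this x
  exact h3

section FieldBC

variable {Pk : FAProp.{u}}
variable {Z Z' : Scheme.{u}} (k k' : Type u) [Field k] [Field k'] [Algebra k k']
  (ξ : Z' ⟶ Z) (q' : Z' ⟶ Spec (CommRingCat.of k')) (q : Z ⟶ Spec (CommRingCat.of k))
  (hsq : IsPullback ξ q' q (Spec.map (CommRingCat.ofHom (algebraMap k k'))))

include hsq in
theorem sections_equiv (W : Z.Opens) (hW : IsAffineOpen W) :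
    letI : Algebra k Γ(Z, W) := (secAlg q W).hom.toAlgebra
    letI : Algebra k' Γ(Z', ξ ⁻¹ᵁ W) := (secAlg q' (ξ ⁻¹ᵁ W)).hom.toAlgebra
    ∃ τ : Γ(Z', ξ ⁻¹ᵁ W) ≃+* k' ⊗[k] Γ(Z, W),
      ∀ x : k', τ (algebraMap k' Γ(Z', ξ ⁻¹ᵁ W) x) = algebraMap k' (k' ⊗[k] Γ(Z, W)) x := by
  letI : Algebra k Γ(Z, W) := (secAlg q W).hom.toAlgebra
  letI : Algebra k' Γ(Z', ξ ⁻¹ᵁ W) := (secAlg q' (ξ ⁻¹ᵁ W)).hom.toAlgebra
  obtain ⟨τ, hτ⟩ := exists_equiv_of_isPushout k k' (secAlg q W) (ξ.app W)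
    (secAlg q' (ξ ⁻¹ᵁ W)) (isPushout_sections _ ξ q' q hsq W hW)
  refine ⟨τ, fun x => ?_⟩
  rw [Algebra.TensorProduct.algebraMap_apply]
  exact hτ x

include hsq in
theorem fieldBC_ascent (hP : Pk.Local) (hB : Pk.FieldBC) [Algebra.EssFiniteType k k']
    [IsLocallyNoetherian Z]
    (H : ∀ (W : Z.Opens), IsAffineOpen W →
      letI : Algebra k Γ(Z, W) := (secAlg q W).hom.toAlgebra
      Pk k Γ(Z, W)) :
    IsLocallyNoetherian Z' ∧ ∀ (W' : Z'.Opens), IsAffineOpen W' →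
      letI : Algebra k' Γ(Z', W') := (secAlg q' W').hom.toAlgebra
      Pk k' Γ(Z', W') := by
  let Wz : Z.affineOpens → Z'.affineOpens := fun W =>
    ⟨ξ ⁻¹ᵁ W.1, isAffineOpen_preimage_of_isPullback _ ξ q' q hsq W.1 W.2⟩
  have hcov : (⨆ W, (Wz W : Z'.Opens)) = ⊤ := by
    rw [eq_top_iff]
    intro z' _
    obtain ⟨_, ⟨W, hW, rfl⟩, hzW, -⟩ :=
      Z.isBasis_affineOpens.exists_subset_of_mem_open (Set.mem_univ (ξ z')) isOpen_univ
    exact TopologicalSpace.Opens.mem_iSup.mpr ⟨⟨W, hW⟩, hzW⟩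
  have hNoe : ∀ W : Z.affineOpens, IsNoetherianRing Γ(Z', (Wz W).1) := by
    intro W
    letI : Algebra k Γ(Z, W.1) := (secAlg q W.1).hom.toAlgebra
    letI : Algebra k' Γ(Z', ξ ⁻¹ᵁ W.1) := (secAlg q' (ξ ⁻¹ᵁ W.1)).hom.toAlgebra
    obtain ⟨τ, hτ⟩ := sections_equiv k k' ξ q' q hsq W.1 W.2
    haveI : IsNoetherianRing Γ(Z, W.1) := IsLocallyNoetherian.component_noetherian W
    haveI := Groth.Agent.Helper8.GRBase.isNoetherianRing_tensor_of_essFiniteType k Γ(Z, W.1) k'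
    exact isNoetherianRing_of_ringEquiv _ τ.symm
  haveI hLN : IsLocallyNoetherian Z' := isLocallyNoetherian_of_affine_cover hcov hNoe
  refine ⟨hLN, fun W' hW' => ?_⟩
  refine affine_local hP k' q' Wz hcov ?_ W' hW'
  intro W
  letI : Algebra k Γ(Z, W.1) := (secAlg q W.1).hom.toAlgebra
  letI : Algebra k' Γ(Z', ξ ⁻¹ᵁ W.1) := (secAlg q' (ξ ⁻¹ᵁ W.1)).hom.toAlgebra
  obtain ⟨τ, hτ⟩ := sections_equiv k k' ξ q' q hsq W.1 W.2
  haveI : IsNoetherianRing Γ(Z, W.1) := IsLocallyNoetherian.component_noetherian W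
  have h1 : Pk k' (k' ⊗[k] Γ(Z, W.1)) := hB.ascent (H W.1 W.2)
  change Pk k' Γ(Z', ξ ⁻¹ᵁ W.1)
  refine hP.transport (RingEquiv.refl k') τ.symm ?_ h1
  intro a
  rw [RingEquiv.symm_apply_eq]
  exact (hτ a).symm

include hsq in
theorem fieldBC_descent (hP : Pk.Local) (hB : Pk.FieldBC) [Algebra.EssFiniteType k k']
    [IsLocallyNoetherian Z']
    (H' : ∀ (W' : Z'.Opens), IsAffineOpen W' →
      letI : Algebra k' Γ(Z', W') := (secAlg q' W').hom.toAlgebra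
      Pk k' Γ(Z', W')) :
    IsLocallyNoetherian Z ∧ ∀ (W : Z.Opens), IsAffineOpen W →
      letI : Algebra k Γ(Z, W) := (secAlg q W).hom.toAlgebra
      Pk k Γ(Z, W) := by
  have hNoe : ∀ W : Z.affineOpens, IsNoetherianRing Γ(Z, W.1) := by
    intro W
    letI : Algebra k Γ(Z, W.1) := (secAlg q W.1).hom.toAlgebra
    letI : Algebra k' Γ(Z', ξ ⁻¹ᵁ W.1) := (secAlg q' (ξ ⁻¹ᵁ W.1)).hom.toAlgebra
    obtain ⟨τ, hτ⟩ := sections_equiv k k' ξ q' q hsq W.1 W.2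
    haveI : IsNoetherianRing Γ(Z', ξ ⁻¹ᵁ W.1) :=
      IsLocallyNoetherian.component_noetherian
        ⟨ξ ⁻¹ᵁ W.1, isAffineOpen_preimage_of_isPullback _ ξ q' q hsq W.1 W.2⟩
    haveI : IsNoetherianRing (k' ⊗[k] Γ(Z, W.1)) := isNoetherianRing_of_ringEquiv _ τ
    haveI : IsNoetherianRing (Γ(Z, W.1) ⊗[k] k') :=
      isNoetherianRing_of_ringEquiv _ (Algebra.TensorProduct.comm k k' Γ(Z, W.1)).toRingEquiv
    haveI : Module.FaithfullyFlat Γ(Z, W.1) (Γ(Z, W.1) ⊗[k] k') := inferInstance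
    exact Groth.Agent.Helper2.SchLib.isNoetherianRing_of_faithfullyFlat
      (φ := algebraMap Γ(Z, W.1) (Γ(Z, W.1) ⊗[k] k'))
      (RingHom.faithfullyFlat_algebraMap_iff.mpr inferInstance)
  refine ⟨⟨hNoe⟩, fun W hW => ?_⟩
  letI : Algebra k Γ(Z, W) := (secAlg q W).hom.toAlgebra
  letI : Algebra k' Γ(Z', ξ ⁻¹ᵁ W) := (secAlg q' (ξ ⁻¹ᵁ W)).hom.toAlgebra
  obtain ⟨τ, hτ⟩ := sections_equiv k k' ξ q' q hsq W hW
  haveI : IsNoetherianRing Γ(Z, W) := hNoe ⟨W, hW⟩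
  have h1 : Pk k' Γ(Z', ξ ⁻¹ᵁ W) :=
    H' (ξ ⁻¹ᵁ W) (isAffineOpen_preimage_of_isPullback _ ξ q' q hsq W hW)
  have h2 : Pk k' (k' ⊗[k] Γ(Z, W)) := hP.transport (RingEquiv.refl k') τ hτ h1
  exact hB.descent h2

end FieldBC

end Groth.Agent.Helper2.RegMor
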