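import Mathlib
import Groth.Prelude.Def_Found
import Groth.Agent.Lib.Helper2.RegMor.FieldBC

/-!
# Morphisms with fibres having a local property: fppf base change (helper2)
-/

set_option autoImplicit false
set_option backward.isDefEq.respectTransparency.types false
set_option synthInstance.maxHeartbeats 400000
set_option maxHeartbeats 4000000
set_option linter.style.haveILetI false
set_option linter.unusedSectionVars false
set_option linter.unusedVariables false
set_option linter.unusedSimpArgs false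

universe u

open CategoryTheory Limits AlgebraicGeometry TensorProduct

namespace Groth.Agent.Helper2.RegMor

theorem flat_codescendsAlong_faithfullyFlat' :
    RingHom.CodescendsAlong RingHom.Flat RingHom.FaithfullyFlat := by
  refine .mk _ RingHom.Flat.respectsIso fun R S T _ _ _ _ _ h h' ↦ ?_
  rw [RingHom.flat_algebraMap_iff] at h' ⊢
  rw [RingHom.faithfullyFlat_algebraMap_iff] at h
  exact Module.Flat.of_flat_tensorProduct R T S

theorem flat_descends_fppf :
    MorphismProperty.DescendsAlong (@Flat : MorphismProperty Scheme.{u})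
      (@Surjective ⊓ @Flat ⊓ @LocallyOfFinitePresentation) := by
  haveI : MorphismProperty.DescendsAlong (@Flat : MorphismProperty Scheme.{u})
      (@Surjective ⊓ @Flat ⊓ @QuasiCompact) :=
    HasRingHomProperty.descendsAlong_flat flat_codescendsAlong_faithfullyFlat'
  infer_instance

/-- the fibrewise condition -/
def FibP (Pk : FAProp.{u}) {X Y : Scheme.{u}} (f : X ⟶ Y) (y : Y) : Prop :=
  ∀ (W : (f.fiber y).Opens), IsAffineOpen W →
    letI : Algebra ↑(Y.residueField y) ↑Γ(f.fiber y, W) :=
      (secAlg (f.fiberToSpecResidueField y) W).hom.toAlgebra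
    Pk ↑(Y.residueField y) ↑Γ(f.fiber y, W)

theorem fibre_iff {Pk : FAProp.{u}} (hP : Pk.Local) (hB : Pk.FieldBC)
    {X Y X' Y' : Scheme.{u}} (f : X ⟶ Y) (f' : X' ⟶ Y') (g' : X' ⟶ X) (g : Y' ⟶ Y)
    [LocallyOfFiniteType g] (hc : IsPullback g' f' f g) (y' : Y') :
    (IsLocallyNoetherian (f.fiber (g y')) ∧ FibP Pk f (g y')) ↔
      (IsLocallyNoetherian (f'.fiber y') ∧ FibP Pk f' y') := by
  letI : Algebra ↑(Y.residueField (g y')) ↑(Y'.residueField y') :=
    (g.residueFieldMap y').hom.toAlgebra
  haveI : Algebra.EssFiniteType ↑(Y.residueField (g y')) ↑(Y'.residueField y') :=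
    RingHom.EssFiniteType.residueFieldMap (LocallyOfFiniteType.stalkMap g y')
  have hsq := isPullback_fiberToSpecResidueField_of_isPullback hc y'
  constructor
  · rintro ⟨hLN, H⟩
    haveI := hLN
    exact fieldBC_ascent ↑(Y.residueField (g y')) ↑(Y'.residueField y') _
      (f'.fiberToSpecResidueField y') (f.fiberToSpecResidueField (g y')) hsq hP hB H
  · rintro ⟨hLN, H⟩
    haveI := hLN
    exact fieldBC_descent ↑(Y.residueField (g y')) ↑(Y'.residueField y') _
      (f'.fiberToSpecResidueField y') (f.fiberToSpecResidueField (g y')) hsq hP hB H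

/-- fppf base change for morphisms with locally Noetherian fibres, flat with fibres `Pk` -/
theorem fppf_iff {Pk : FAProp.{u}} (hP : Pk.Local) (hB : Pk.FieldBC)
    {X Y X' Y' : Scheme.{u}} (f : X ⟶ Y) (f' : X' ⟶ Y') (g' : X' ⟶ X) (g : Y' ⟶ Y)
    [Flat g] [LocallyOfFinitePresentation g] [Surjective g] (hc : IsPullback g' f' f g) :
    ((∀ y : Y, IsLocallyNoetherian (f.fiber y)) ∧
      (∀ (U : X.Opens) (V : Y.Opens) (hU : IsAffineOpen U) (hV : IsAffineOpen V)
        (hUV : U ≤ f ⁻¹ᵁ V),
        letI := (f.appLE V U hUV).hom.toAlgebra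
        HomProp Pk Γ(Y, V) Γ(X, U))) ↔
    ((∀ y' : Y', IsLocallyNoetherian (f'.fiber y')) ∧
      (∀ (U : X'.Opens) (V : Y'.Opens) (hU : IsAffineOpen U) (hV : IsAffineOpen V)
        (hUV : U ≤ f' ⁻¹ᵁ V),
        letI := (f'.appLE V U hUV).hom.toAlgebra
        HomProp Pk Γ(Y', V) Γ(X', U))) := by
  have key := fibre_iff hP hB f f' g' g hc
  constructor
  · rintro ⟨hN, H⟩
    have h1 := (main_generic hP f hN).mp H
    have h2 : ∀ y', IsLocallyNoetherian (f'.fiber y') ∧ FibP Pk f' y' :=
      fun y' => (key y').mp ⟨hN (g y'), h1.2 (g y')⟩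
    have hN' : ∀ y', IsLocallyNoetherian (f'.fiber y') := fun y' => (h2 y').1
    refine ⟨hN', (main_generic hP f' hN').mpr ⟨?_, fun y' => (h2 y').2⟩⟩
    exact MorphismProperty.of_isPullback (P := @Flat) hc h1.1
  · rintro ⟨hN', H'⟩
    have h1 := (main_generic hP f' hN').mp H'
    have h2 : ∀ y, IsLocallyNoetherian (f.fiber y) ∧ FibP Pk f y := by
      intro y
      obtain ⟨y', rfl⟩ := g.surjective y
      exact (key y').mpr ⟨hN' y', h1.2 y'⟩
    have hN : ∀ y, IsLocallyNoetherian (f.fiber y) := fun y => (h2 y).1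
    refine ⟨hN, (main_generic hP f hN).mpr ⟨?_, fun y => (h2 y).2⟩⟩
    haveI := flat_descends_fppf.{u}
    exact MorphismProperty.of_isPullback_of_descendsAlong (P := @Flat)
      (Q := @Surjective ⊓ @Flat ⊓ @LocallyOfFinitePresentation) hc.flip
      ⟨⟨‹Surjective g›, ‹Flat g›⟩, ‹LocallyOfFinitePresentation g›⟩ h1.1

end Groth.Agent.Helper2.RegMor
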