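import Mathlib
import Groth.Prelude.Def_Found
import Groth.Prelude.Def_EGA4b
import Groth.Agent.Lib.Helper2.RegMor.Fppf
import Groth.Agent.Lib.Helper3.SmDesc1
import Groth.Agent.Lib.Helper8.NormBase3
import Groth.Agent.Lib.Helper8.NormBase5

/-!
# Regular and normal morphisms under fppf base change (helper2)
-/

set_option autoImplicit false
set_option backward.isDefEq.respectTransparency.types false
set_option synthInstance.maxHeartbeats 400000
set_option maxHeartbeats 4000000
set_option linter.style.haveILetI false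
set_option linter.unusedSectionVars false
set_option linter.unusedVariables false
set_option linter.unusedSimpArgs false

universe u

open CategoryTheory Limits AlgebraicGeometry TensorProduct

namespace Groth.Agent.Helper2.RegMor

/-! ### Regular -/

/-- Noetherian and geometrically regular -/
def PReg : FAProp.{u} := fun K _ C _ _ => IsNoetherianRing C ∧ CAlg.IsGeometricallyRegular K C

/-- Geometric regularity descends along extensions of the base field. -/
theorem geomReg_of_tensor_field (k F K : Type u) [Field k] [CommRing F] [Algebra k F] [Field K]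
    [Algebra k K] [IsNoetherianRing F]
    (h : CAlg.IsGeometricallyRegular K (K ⊗[k] F)) : CAlg.IsGeometricallyRegular k F := by
  intro k1 _ _ hfin
  haveI := hfin
  obtain ⟨m, hm⟩ := Ideal.exists_maximal (K ⊗[k] k1)
  letI : Field ((K ⊗[k] k1) ⧸ m) := Ideal.Quotient.field m
  haveI : Module.Finite K (K ⊗[k] k1) := inferInstance
  haveI hfinK : Module.Finite K ((K ⊗[k] k1) ⧸ m) :=
    Module.Finite.of_surjective (Ideal.Quotient.mkₐ K m).toLinearMap Ideal.Quotient.mk_surjective
  let φ : k1 →ₐ[k] (K ⊗[k] k1) ⧸ m :=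
    (Ideal.Quotient.mkₐ k m).comp Algebra.TensorProduct.includeRight
  letI : Algebra k1 ((K ⊗[k] k1) ⧸ m) := φ.toRingHom.toAlgebra
  haveI : IsScalarTower k k1 ((K ⊗[k] k1) ⧸ m) :=
    IsScalarTower.of_algebraMap_eq fun x => (φ.commutes x).symm
  haveI h1 : IsRegularRing (((K ⊗[k] k1) ⧸ m) ⊗[K] (K ⊗[k] F)) := h _ hfinK
  haveI h2 : IsRegularRing (((K ⊗[k] k1) ⧸ m) ⊗[k] F) :=
    IsRegularRing.of_ringEquiv
      (Algebra.TensorProduct.cancelBaseChange k K ((K ⊗[k] k1) ⧸ m) ((K ⊗[k] k1) ⧸ m)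
        F).toRingEquiv
  haveI h3 : IsRegularRing (((K ⊗[k] k1) ⧸ m) ⊗[k1] (k1 ⊗[k] F)) :=
    IsRegularRing.of_ringEquiv
      (Algebra.TensorProduct.cancelBaseChange k k1 ((K ⊗[k] k1) ⧸ m) ((K ⊗[k] k1) ⧸ m)
        F).symm.toRingEquiv
  haveI h4 : IsRegularRing ((k1 ⊗[k] F) ⊗[k1] ((K ⊗[k] k1) ⧸ m)) :=
    IsRegularRing.of_ringEquiv
      (Algebra.TensorProduct.comm k1 ((K ⊗[k] k1) ⧸ m) (k1 ⊗[k] F)).toRingEquiv
  haveI : Module.Free k1 ((K ⊗[k] k1) ⧸ m) := Module.Free.of_divisionRing k1 _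
  haveI : Module.FaithfullyFlat k1 ((K ⊗[k] k1) ⧸ m) :=
    Module.FaithfullyFlat.instOfNontrivialOfFree k1 _
  haveI : Module.FaithfullyFlat (k1 ⊗[k] F) ((k1 ⊗[k] F) ⊗[k1] ((K ⊗[k] k1) ⧸ m)) := inferInstance
  haveI : IsNoetherianRing (k1 ⊗[k] F) := by
    haveI : Module.Finite F (F ⊗[k] k1) := Module.Finite.base_change k F k1
    haveI : IsNoetherianRing (F ⊗[k] k1) := Algebra.FiniteType.isNoetherianRing F (F ⊗[k] k1)
    exact isNoetherianRing_of_ringEquiv (F ⊗[k] k1) (Algebra.TensorProduct.comm k F k1).toRingEquiv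
  exact Groth.Agent.Helper3.SmDesc.isRegularRing_of_faithfullyFlat (k1 ⊗[k] F)
    ((k1 ⊗[k] F) ⊗[k1] ((K ⊗[k] k1) ⧸ m))

theorem pReg_local : FAProp.Local PReg.{u} where
  transport σ τ h := fun ⟨h1, h2⟩ =>
    ⟨isNoetherianRing_of_ringEquiv _ τ, geomReg_transport σ τ h h2⟩
  loc M _ := fun ⟨h1, h2⟩ =>
    ⟨IsLocalization.isNoetherianRing M _ h1, geomReg_of_isLocalization M h2⟩
  glue s hs h := by
    refine ⟨inferInstance, geomReg_of_span s hs ?_⟩
    intro g hg
    obtain ⟨C', i1, i2, i3, i4, hloc, hN, hreg⟩ := h g hg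
    exact ⟨C', i1, i2, i3, i4, hloc, hreg⟩

theorem pReg_fieldBC : FAProp.FieldBC PReg.{u} where
  ascent := by
    intro K K' C _ _ _ _ _ _ _ ⟨h1, h2⟩
    haveI : IsNoetherianRing (K' ⊗[K] C) :=
      Groth.Agent.Helper8.GRBase.isNoetherianRing_tensor_of_essFiniteType K C K'
    exact ⟨inferInstance, Groth.Agent.Helper8.GRBase.isGeometricallyRegular_tensor K' h2⟩
  descent := by
    intro K K' C _ _ _ _ _ _ _ ⟨h1, h2⟩
    exact ⟨inferInstance, geomReg_of_tensor_field K C K' h2⟩

/-! ### Normal -/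

/-- geometrically normal -/
def PNorm : FAProp.{u} := fun K _ C _ _ => EGA4.IsGeomNormal K C

theorem geomNormal_transport {K K₁ C' C : Type u} [Field K] [Field K₁] [CommRing C'] [CommRing C]
    [Algebra K C'] [Algebra K₁ C] (σ : K ≃+* K₁) (τ : C' ≃+* C)
    (h : ∀ a, τ (algebraMap K C' a) = algebraMap K₁ C (σ a))
    (hreg : EGA4.IsGeomNormal K C') : EGA4.IsGeomNormal K₁ C := by
  intro k₁ _ _ hfin
  letI : Algebra K K₁ := σ.toRingHom.toAlgebra
  letI : Algebra K k₁ := ((algebraMap K₁ k₁).comp σ.toRingHom).toAlgebra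
  letI : Algebra K C := ((algebraMap K₁ C).comp σ.toRingHom).toAlgebra
  haveI : IsScalarTower K K₁ k₁ := .of_algebraMap_eq' rfl
  haveI : IsScalarTower K K₁ C := .of_algebraMap_eq' rfl
  haveI : Module.Finite K K₁ := Module.Finite.of_surjective (Algebra.linearMap K K₁) σ.surjective
  haveI : Module.Finite K k₁ := Module.Finite.trans K₁ k₁
  have hr : EGA4.IsNormalRing (k₁ ⊗[K] C') := hreg k₁ inferInstance
  let τ' : C' ≃ₐ[K] C := { τ with commutes' := h }
  let e1 : k₁ ⊗[K] C' ≃ₐ[K] k₁ ⊗[K] C := Algebra.TensorProduct.congr AlgEquiv.refl τ'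
  haveI : TensorProduct.CompatibleSMul K K₁ k₁ C := by
    refine ⟨fun s m n => ?_⟩
    obtain ⟨r, rfl⟩ := σ.surjective s
    have h1 : (σ r) • m = r • m := by
      rw [Algebra.smul_def, Algebra.smul_def]; rfl
    have h2 : (σ r) • n = r • n := by
      rw [Algebra.smul_def, Algebra.smul_def]; rfl
    rw [h1, h2, TensorProduct.smul_tmul]
  let e2 : k₁ ⊗[K₁] C ≃ₐ[K] k₁ ⊗[K] C := Algebra.TensorProduct.equivOfCompatibleSMul K K₁ K k₁ C
  exact Groth.Agent.Helper8.Cpl.isNormalRing_of_ringEquiv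
    (e1.toRingEquiv.trans e2.symm.toRingEquiv) hr

/-- a ring which is Zariski-locally normal is normal -/
theorem isNormalRing_of_cover {T : Type u} [CommRing T]
    (h : ∀ P : Ideal T, P.IsPrime → ∃ (T' : Type u) (_ : CommRing T') (_ : Algebra T T')
      (M : Submonoid T), IsLocalization M T' ∧ EGA4.IsNormalRing T' ∧
        Disjoint (M : Set T) (P : Set T)) : EGA4.IsNormalRing T := by
  intro P hP
  obtain ⟨T', _, _, M, hloc, hreg, hdisj⟩ := h P hP
  have hP' : (P.map (algebraMap T T')).IsPrime :=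
    IsLocalization.isPrime_of_isPrime_disjoint M T' P hP hdisj
  have hcomap : (P.map (algebraMap T T')).comap (algebraMap T T') = P :=
    IsLocalization.under_map_of_isPrime_disjoint M T' hP hdisj
  haveI : IsLocalization.AtPrime (Localization.AtPrime (P.map (algebraMap T T')))
      ((P.map (algebraMap T T')).comap (algebraMap T T')) :=
    IsLocalization.isLocalization_isLocalization_atPrime_isLocalization M
      (Localization.AtPrime (P.map (algebraMap T T'))) (P.map (algebraMap T T'))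
  obtain ⟨hd, hic⟩ := hreg (P.map (algebraMap T T'))
  let e : Localization.AtPrime ((P.map (algebraMap T T')).comap (algebraMap T T')) ≃+*
      Localization.AtPrime (P.map (algebraMap T T')) :=
    (IsLocalization.algEquiv ((P.map (algebraMap T T')).comap (algebraMap T T')).primeCompl
        (Localization.AtPrime ((P.map (algebraMap T T')).comap (algebraMap T T')))
        (Localization.AtPrime (P.map (algebraMap T T')))).toRingEquiv
  have key : IsDomain (Localization.AtPrime ((P.map (algebraMap T T')).comap (algebraMap T T'))) ∧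
      IsIntegrallyClosed
        (Localization.AtPrime ((P.map (algebraMap T T')).comap (algebraMap T T'))) :=
    ⟨e.toMulEquiv.isDomain _, IsIntegrallyClosed.of_equiv e.symm⟩
  have hE : ∀ (Q : Ideal T) [Q.IsPrime] (hQ : Q = P),
      (IsDomain (Localization.AtPrime Q) ∧ IsIntegrallyClosed (Localization.AtPrime Q)) →
      (IsDomain (Localization.AtPrime P) ∧ IsIntegrallyClosed (Localization.AtPrime P)) := by
    intro Q _ hQ hh; subst hQ; exact hh
  exact hE _ hcomap key

theorem geomNormal_of_span {K C : Type u} [Field K] [CommRing C] [Algebra K C]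
    (s : Set C) (hs : Ideal.span s = ⊤)
    (h : ∀ g ∈ s, ∃ (C' : Type u) (_ : CommRing C') (_ : Algebra K C') (_ : Algebra C C')
      (_ : IsScalarTower K C C'), IsLocalization.Away g C' ∧ EGA4.IsGeomNormal K C') :
    EGA4.IsGeomNormal K C := by
  intro k' _ _ hfin
  apply isNormalRing_of_cover
  intro P hP
  have hspan : Ideal.span ((Algebra.TensorProduct.includeRight (R := K) (A := k') (B := C)) '' s)
      = ⊤ := by
    have := congrArg (Ideal.map (Algebra.TensorProduct.includeRight (R := K) (A := k') (B := C))) hs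
    rwa [Ideal.map_span, Ideal.map_top] at this
  obtain ⟨g, hg, hgP⟩ : ∃ g ∈ s, ((1 : k') ⊗ₜ[K] g) ∉ P := by
    by_contra hcon
    push Not at hcon
    have hle : Ideal.span ((Algebra.TensorProduct.includeRight (R := K) (A := k') (B := C)) '' s)
        ≤ P := by
      rw [Ideal.span_le]
      rintro _ ⟨g, hg, rfl⟩
      exact hcon g hg
    rw [hspan] at hle
    exact hP.ne_top (top_le_iff.mp hle)
  obtain ⟨C', _, _, _, _, hloc, hreg⟩ := h g hg
  haveI := hloc
  letI := tensorAlg K k' C C'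
  refine ⟨k' ⊗[K] C', inferInstance, inferInstance,
    (Submonoid.powers g).map (Algebra.TensorProduct.includeRight (R := K) (A := k')),
    isLocalization_tensor K k' C C' (Submonoid.powers g), hreg k' hfin, ?_⟩
  rw [Set.disjoint_left]
  rintro x hx hxP
  obtain ⟨y, ⟨n, rfl⟩, rfl⟩ := hx
  have : ((1 : k') ⊗ₜ[K] g) ^ n ∈ P := by
    have h2 : (Algebra.TensorProduct.includeRight (R := K) (A := k') (B := C)) (g ^ n) =
        ((1 : k') ⊗ₜ[K] g) ^ n := by
      rw [map_pow]; rfl
    rw [← h2]; exact hxP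
  exact hgP (hP.mem_of_pow_mem n this)

theorem pNorm_local : FAProp.Local PNorm.{u} where
  transport σ τ h := geomNormal_transport σ τ h
  loc {K C C'} _ _ _ _ _ _ _ M _ := fun h =>
    Groth.Agent.Helper8.NormBase.isGeomNormal_of_isLocalization K C C' M h
  glue s hs h := geomNormal_of_span s hs h

theorem pNorm_fieldBC : FAProp.FieldBC PNorm.{u} where
  ascent := by
    intro K K' C _ _ _ _ _ _ _ h
    exact Groth.Agent.Helper8.NormBase.isGeomNormal_tensor_field K C K' h
  descent := by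
    intro K K' C _ _ _ _ _ _ _ h
    exact Groth.Agent.Helper8.NormBase.isGeomNormal_of_tensor_field K C K' h

/-! ### Main theorems -/

open AlgebraicGeometry CategoryTheory Limits in
theorem main1476 {X Y X' Y' : Scheme.{u}} (f : X ⟶ Y) (f' : X' ⟶ Y') (g' : X' ⟶ X) (g : Y' ⟶ Y)
    [Flat g] [LocallyOfFinitePresentation g] [Surjective g] (hc : IsPullback g' f' f g) :
    ((∀ y : Y, IsLocallyNoetherian (f.fiber y)) ∧ (∀ (U : X.Opens) (V : Y.Opens)
        (hU : IsAffineOpen U) (hV : IsAffineOpen V) (hUV : U ≤ f ⁻¹ᵁ V),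
        letI := (f.appLE V U hUV).hom.toAlgebra
        CAlg.IsRegularHom Γ(Y, V) Γ(X, U))) ↔
      ((∀ y' : Y', IsLocallyNoetherian (f'.fiber y')) ∧ (∀ (U : X'.Opens) (V : Y'.Opens)
        (hU : IsAffineOpen U) (hV : IsAffineOpen V) (hUV : U ≤ f' ⁻¹ᵁ V),
        letI := (f'.appLE V U hUV).hom.toAlgebra
        CAlg.IsRegularHom Γ(Y', V) Γ(X', U))) :=
  fppf_iff pReg_local pReg_fieldBC f f' g' g hc

open AlgebraicGeometry CategoryTheory Limits in
theorem main1475 {X Y X' Y' : Scheme.{u}} (f : X ⟶ Y) (f' : X' ⟶ Y') (g' : X' ⟶ X) (g : Y' ⟶ Y)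
    [Flat g] [LocallyOfFinitePresentation g] [Surjective g] (hc : IsPullback g' f' f g) :
    ((∀ y : Y, IsLocallyNoetherian (f.fiber y)) ∧ (∀ (U : X.Opens) (V : Y.Opens)
        (hU : IsAffineOpen U) (hV : IsAffineOpen V) (hUV : U ≤ f ⁻¹ᵁ V),
        letI := (f.appLE V U hUV).hom.toAlgebra
        EGA4.IsNormalHom Γ(Y, V) Γ(X, U))) ↔
      ((∀ y' : Y', IsLocallyNoetherian (f'.fiber y')) ∧ (∀ (U : X'.Opens) (V : Y'.Opens)
        (hU : IsAffineOpen U) (hV : IsAffineOpen V) (hUV : U ≤ f' ⁻¹ᵁ V),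
        letI := (f'.appLE V U hUV).hom.toAlgebra
        EGA4.IsNormalHom Γ(Y', V) Γ(X', U))) :=
  fppf_iff pNorm_local pNorm_fieldBC f f' g' g hc

end Groth.Agent.Helper2.RegMor
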